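import Groth.Agent.ProjGamma.Amb
import Groth.Agent.QCohLib.Sections
import Mathlib.RingTheory.Localization.AtPrime.Basic

/-!
# Every section on a chart extends to a compatible family of some degree
-/

set_option autoImplicit false
universe u
open CategoryTheory AlgebraicGeometry Opposite TopologicalSpace

namespace Groth.Agent.ProjGamma

set_option synthInstance.maxHeartbeats 400000
set_option maxHeartbeats 1600000

variable {R A : Type u} [CommRing R] [CommRing A] [Algebra R A] {𝒜 : ℕ → Submodule R A} [GradedAlgebra 𝒜]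
variable {C : Cover 𝒜} {F : (Proj 𝒜).Modules}

/-- Restriction of sections. -/
noncomputable abbrev res {W W' : (Proj 𝒜).Opens} (h : W' ≤ W) (t : Γ(F, W)) : Γ(F, W') :=
  F.presheaf.map (homOfLE h).op t

/-- Restriction of functions. -/
noncomputable abbrev resO {W W' : (Proj 𝒜).Opens} (h : W' ≤ W) (c : Γ(Proj 𝒜, W)) : Γ(Proj 𝒜, W') :=
  (Proj 𝒜).presheaf.map (homOfLE h).op c

theorem mem_basicOpen_iff {W : (Proj 𝒜).Opens} (c : Γ(Proj 𝒜, W)) {a : A} {x : ProjectiveSpectrum 𝒜}
    {t : x.asHomogeneousIdeal.toIdeal.primeCompl} (hx : x ∈ W) (hc : rval c x hx = Localization.mk a t) :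
    x ∈ (Proj 𝒜).basicOpen c ↔ a ∉ x.asHomogeneousIdeal := by
  constructor
  · intro h
    have h1 := ((Scheme.mem_basicOpen (Proj 𝒜) c x hx).mp h).map (Proj.stalkIso' 𝒜 x).toRingHom
    erw [Proj.stalkIso'_germ] at h1
    rw [← HomogeneousLocalization.isUnit_iff_isUnit_val] at h1
    replace h1 : IsUnit (rval c x hx) := h1
    rw [hc, Localization.mk_eq_mk', IsLocalization.AtPrime.isUnit_mk'_iff] at h1
    exact h1
  · intro ha
    refine (Scheme.mem_basicOpen (Proj 𝒜) c x hx).mpr ?_
    refine (MulEquiv.isUnit_map (Proj.stalkIso' 𝒜 x)).mp ?_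
    erw [Proj.stalkIso'_germ]
    rw [← HomogeneousLocalization.isUnit_iff_isUnit_val]
    show IsUnit (rval c x hx)
    rw [hc, Localization.mk_eq_mk', IsLocalization.AtPrime.isUnit_mk'_iff]
    exact ha

/-- The non-vanishing locus of `a / g ^ j` in `D₊(g)`. -/
theorem basicOpen_frac (g : C.gens) {j : ℕ} (a : 𝒜 j) :
    (Proj 𝒜).basicOpen (frac C g j a) = U C g ⊓ Proj.basicOpen 𝒜 a.1 := by
  ext x
  constructor
  · intro hx
    have hxU : x ∈ U C g := (Proj 𝒜).basicOpen_le _ hx
    exact ⟨hxU, (mem_basicOpen_iff _ hxU (rval_frac C g a x hxU)).mp hx⟩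
  · rintro ⟨hxU, hxa⟩
    exact (mem_basicOpen_iff _ hxU (rval_frac C g a x hxU)).mpr hxa

theorem isAffineOpen_U (g : C.gens) : IsAffineOpen (U C g) :=
  Proj.isAffineOpen_basicOpen 𝒜 _ (C.deg_one g g.2) one_pos

/-- A section on a chart is the value there of a compatible family. -/
theorem exists_compat [F.IsQuasicoherent] (g0 : C.gens) (x₀ : Γ(F, U C g0)) :
    ∃ (K : ℕ) (t : ∀ g : C.gens, Γ(F, U C g)), Compat K t ∧ t g0 = x₀ := by
  classical
  let a0 : 𝒜 1 := ⟨g0, C.deg_one g0 g0.2⟩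
  -- `c g = g0 / g` on the chart of `g`
  let c : ∀ g : C.gens, Γ(Proj 𝒜, U C g) := fun g => frac C g 1 a0
  have hc : ∀ g, U C g ⊓ U C g0 = (Proj 𝒜).basicOpen (c g) := fun g => (basicOpen_frac g a0).symm
  -- extension over each chart
  choose k e he using fun g => QCohLib.exists_res_eq_pow_smul (M := F) (isAffineOpen_U g) (c g)
    (U C g ⊓ U C g0) inf_le_left (hc g) (res inf_le_right x₀)
  let K := Finset.univ.sup k
  let t₁ : ∀ g : C.gens, Γ(F, U C g) := fun g => c g ^ (K - k g) • e g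
  have ht₁ : ∀ g, res (inf_le_left : U C g ⊓ U C g0 ≤ _) (t₁ g) =
      resO (inf_le_left : U C g ⊓ U C g0 ≤ _) (c g) ^ K • res (inf_le_right : U C g ⊓ U C g0 ≤ _) x₀ := by
    intro g
    have hk : k g ≤ K := Finset.le_sup (Finset.mem_univ g)
    show res (inf_le_left : U C g ⊓ U C g0 ≤ _) (c g ^ (K - k g) • e g) = _
    rw [res, Scheme.Modules.map_smul, map_pow, he g, smul_smul, ← pow_add, Nat.sub_add_cancel hk]
  -- the defect on overlaps is killed by a power of `g0 / g'`
  have htor : ∀ g g' : C.gens, ∃ L : ℕ, (resO (inf_le_right : U C g ⊓ U C g' ≤ _) (c g')) ^ L •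
      (resR g g' (t₁ g') - rho g g' K • resL g g' (t₁ g)) = 0 := by
    intro g g'
    have haff : IsAffineOpen (U C g ⊓ U C g') := by
      have h2 : Proj.basicOpen 𝒜 ((g : A) * g') = U C g ⊓ U C g' := Proj.basicOpen_mul 𝒜 _ _
      rw [← h2]
      exact Proj.isAffineOpen_basicOpen 𝒜 _ (SetLike.mul_mem_graded (C.deg_one g g.2) (C.deg_one g' g'.2))
        two_pos
    have hD : U C g ⊓ U C g' ⊓ U C g0 =
        (Proj 𝒜).basicOpen (resO (inf_le_right : U C g ⊓ U C g' ≤ _) (c g')) := by
      ext x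
      constructor
      · rintro ⟨hx, hx0⟩
        exact (mem_basicOpen_iff _ hx (rval_frac C g' a0 x hx.2)).mpr hx0
      · intro h
        have hx := (Proj 𝒜).basicOpen_le _ h
        exact ⟨hx, (mem_basicOpen_iff _ hx (rval_frac C g' a0 x hx.2)).mp h⟩
    refine QCohLib.exists_pow_smul_eq_zero (M := F) haff _ (U C g ⊓ U C g' ⊓ U C g0) inf_le_left hD _ ?_
    have e1 := congrArg (res (F := F) (show U C g ⊓ U C g' ⊓ U C g0 ≤ U C g ⊓ U C g0 from
      fun x hx => ⟨hx.1.1, hx.2⟩)) (ht₁ g)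
    have e2 := congrArg (res (F := F) (show U C g ⊓ U C g' ⊓ U C g0 ≤ U C g' ⊓ U C g0 from
      fun x hx => ⟨hx.1.2, hx.2⟩)) (ht₁ g')
    simp only [res, resO, Scheme.Modules.map_smul, QCohLib.map_map, map_pow, QCohLib.ring_map_map] at e1 e2
    simp only [resR, resL, map_sub, Scheme.Modules.map_smul, QCohLib.map_map]
    rw [e1, e2, smul_smul, ← sub_smul]
    convert zero_smul Γ(Proj 𝒜, U C g ⊓ U C g' ⊓ U C g0) _
    rw [sub_eq_zero]
    refine reg_ext fun x hx => ?_
    rw [rval_mul, rval_pow, rval_pow, rval_res, rval_res, rval_res, rval_frac, rval_frac, rval_rho,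
      Localization.mk_pow, Localization.mk_pow, Localization.mk_mul, Localization.mk_eq_mk_iff,
      Localization.r_iff_exists]
    exact ⟨1, by simp only [Submonoid.coe_mul, SubmonoidClass.coe_pow, OneMemClass.coe_one]; ring⟩
  choose L hL using htor
  let Lm := Finset.univ.sup fun g => Finset.univ.sup fun g' => L g g'
  refine ⟨K + Lm, fun g => c g ^ Lm • t₁ g, fun g g' => ?_, ?_⟩
  · have hle : L g g' ≤ Lm := (Finset.le_sup (f := fun g' => L g g') (Finset.mem_univ g')).trans
      (Finset.le_sup (f := fun g => Finset.univ.sup fun g' => L g g') (Finset.mem_univ g))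
    have h0 := congrArg ((resO (inf_le_right : U C g ⊓ U C g' ≤ _) (c g')) ^ (Lm - L g g') • ·) (hL g g')
    simp only [smul_zero, smul_smul, ← pow_add, Nat.sub_add_cancel hle, smul_sub, sub_eq_zero] at h0
    simp only [resR, resL, Scheme.Modules.map_smul, map_pow, smul_smul]
    refine h0.trans (congrArg (· • resL g g' (t₁ g)) ?_)
    refine reg_ext fun x hx => ?_
    simp only [rval_mul, rval_pow, rval_res, rval_rho]
    erw [rval_frac, rval_frac]
    simp only [Localization.mk_pow, Localization.mk_mul]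
    rw [Localization.mk_eq_mk_iff, Localization.r_iff_exists]
    refine ⟨1, ?_⟩
    obtain ⟨m, hm⟩ := Nat.exists_eq_add_of_le hle
    rw [hm, Nat.add_sub_cancel_left]
    simp only [Submonoid.coe_mul, SubmonoidClass.coe_pow, OneMemClass.coe_one]
    ring
  · have hc0 : c g0 = 1 := reg_ext fun x hx => by
      rw [rval_frac, rval_one]
      exact (congrArg₂ Localization.mk (pow_one (g0 : A)).symm rfl).trans
        (Localization.mk_self (⟨(g0 : A) ^ 1, notMem_chart C g0 1 ⟨x, hx⟩⟩ :
          x.asHomogeneousIdeal.toIdeal.primeCompl))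
    have h1 := ht₁ g0
    rw [hc0, resO, map_one, one_pow, one_smul] at h1
    show c g0 ^ Lm • t₁ g0 = x₀
    rw [hc0, one_pow, one_smul]
    have h2 := congrArg (res (F := F) (show U C g0 ≤ U C g0 ⊓ U C g0 from le_inf le_rfl le_rfl)) h1
    simp only [res, QCohLib.map_map, QCohLib.map_self] at h2
    exact h2

end Groth.Agent.ProjGamma
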