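import Groth.Agent.ProjGamma.Reg
import Groth.Prelude.Def_Coh
import Mathlib.AlgebraicGeometry.Modules.Sheaf
import Mathlib.Algebra.Polynomial.Module.Basic
import Mathlib.Algebra.GradedMulAction
import Mathlib.Algebra.DirectSum.Decomposition

/-!
# The graded module of compatible families attached to a module on `Proj`

For a cover by degree-one `g`, a degree-`n` element is a family `t g ∈ Γ(F, D₊(g))` with
`t g' = (g / g') ^ n • t g` on overlaps; this is the module of sections of `F(n)`.
-/

set_option autoImplicit false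
universe u
open CategoryTheory AlgebraicGeometry Opposite TopologicalSpace DirectSum Polynomial

namespace Groth.Agent.ProjGamma

set_option synthInstance.maxHeartbeats 400000
set_option maxHeartbeats 1600000
set_option linter.unusedVariables false

variable {R A : Type u} [CommRing R] [CommRing A] [Algebra R A] {𝒜 : ℕ → Submodule R A} [GradedAlgebra 𝒜]
variable (C : Cover 𝒜) (F : (Proj 𝒜).Modules)

/-- The chart `D₊(g)`. -/
abbrev U (g : C.gens) : (Proj 𝒜).Opens := Proj.basicOpen 𝒜 (g : A)

theorem notMem_chart (g : C.gens) (n : ℕ) (x : U C g) : (g : A) ^ n ∉ x.1.asHomogeneousIdeal :=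
  notMem_pow x.2 n

/-- `a / g ^ j` on `D₊(g)`. -/
noncomputable def frac (g : C.gens) (j : ℕ) : 𝒜 j →+ Γ(Proj 𝒜, U C g) :=
  AddMonoidHom.mk' (fun a => regFrac (U C g) a.1 ((g : A) ^ j) a.2 (pow_mem_deg (C.deg_one g g.2) j)
      (notMem_chart C g j))
    fun a b => reg_ext fun x hx => by
      rw [rval_add, rval_regFrac, rval_regFrac, rval_regFrac, Localization.add_mk_self]
      rfl

theorem rval_frac (g : C.gens) {j : ℕ} (a : 𝒜 j) (x : ProjectiveSpectrum 𝒜) (hx : x ∈ U C g) :
    rval (frac C g j a) x hx = Localization.mk a.1 ⟨(g : A) ^ j, notMem_chart C g j ⟨x, hx⟩⟩ :=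
  rval_regFrac _ _ _ _ _ _ x hx

/-- `a ↦ Σ_j (a_j / g ^ j) X ^ j`. -/
noncomputable def theta (g : C.gens) : A →+* Polynomial Γ(Proj 𝒜, U C g) :=
  (DirectSum.toSemiring (fun j => (monomial j).toAddMonoidHom.comp (frac C g j))
    (by
      have h1 : frac C g 0 (⟨1, SetLike.GradedOne.one_mem⟩ : 𝒜 0) = 1 := reg_ext fun x hx => by
        rw [rval_frac, rval_one]
        exact (congrArg₂ Localization.mk (pow_zero (g : A)).symm rfl).trans
          (Localization.mk_self (⟨(g : A) ^ 0, notMem_chart C g 0 ⟨x, hx⟩⟩ :
            x.asHomogeneousIdeal.toIdeal.primeCompl))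
      show monomial 0 (frac C g 0 (⟨1, SetLike.GradedOne.one_mem⟩ : 𝒜 0)) = 1
      rw [h1, monomial_zero_one])
    (fun {i j} a b => by
      show monomial (i + j) (frac C g (i + j) _) = monomial i (frac C g i a) * monomial j (frac C g j b)
      rw [monomial_mul_monomial]
      congr 1
      refine reg_ext fun x hx => ?_
      rw [rval_mul, rval_frac, rval_frac, rval_frac, Localization.mk_mul]
      congr 1
      exact Subtype.ext (pow_add (g : A) i j))).comp (decomposeRingEquiv 𝒜).toRingHom

theorem theta_of_mem (g : C.gens) {j : ℕ} (a : 𝒜 j) : theta C g (a : A) = monomial j (frac C g j a) := by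
  simp only [theta, RingHom.comp_apply]
  erw [decompose_coe, DirectSum.toSemiring_of]
  rfl

/-- All families with all degrees at once. -/
def Amb : Type u := ∀ g : C.gens, PolynomialModule Γ(Proj 𝒜, U C g) Γ(F, U C g)

noncomputable instance : AddCommGroup (Amb C F) :=
  inferInstanceAs (AddCommGroup (∀ g : C.gens, PolynomialModule Γ(Proj 𝒜, U C g) Γ(F, U C g)))

noncomputable instance : Module (∀ g : C.gens, Polynomial Γ(Proj 𝒜, U C g)) (Amb C F) :=
  inferInstanceAs (Module (∀ g : C.gens, Polynomial Γ(Proj 𝒜, U C g))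
    (∀ g : C.gens, PolynomialModule Γ(Proj 𝒜, U C g) Γ(F, U C g)))

noncomputable instance instModuleA : Module A (Amb C F) :=
  Module.compHom _ (RingHom.pi fun g => theta C g)

noncomputable instance instModuleR : Module R (Amb C F) :=
  Module.compHom _ (algebraMap R A)

instance : IsScalarTower R A (Amb C F) :=
  ⟨fun r a x => by rw [Algebra.smul_def, mul_smul]; rfl⟩

variable {C F}

/-- The degree-`n` component. -/
noncomputable def coef (x : Amb C F) (n : ℕ) (g : C.gens) : Γ(F, U C g) := (x g).coeff n

theorem coef_ext {x y : Amb C F} (h : ∀ n g, coef x n g = coef y n g) : x = y :=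
  funext fun g => PolynomialModule.ext (Finsupp.ext fun n => h n g)

theorem coef_add (x y : Amb C F) (n : ℕ) (g : C.gens) : coef (x + y) n g = coef x n g + coef y n g := rfl

theorem coef_zero (n : ℕ) (g : C.gens) : coef (0 : Amb C F) n g = 0 := rfl

theorem coef_sum {ι : Type*} (S : Finset ι) (f : ι → Amb C F) (n : ℕ) (g : C.gens) :
    coef (∑ i ∈ S, f i) n g = ∑ i ∈ S, coef (f i) n g :=
  map_sum (AddMonoidHom.mk' (fun x : Amb C F => coef x n g) fun x y => coef_add x y n g) f S

theorem coef_smul_of_mem {j : ℕ} (a : 𝒜 j) (x : Amb C F) (k : ℕ) (g : C.gens) :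
    coef ((a : A) • x) k g = if j ≤ k then frac C g j a • coef x (k - j) g else 0 := by
  show (theta C g (a : A) • x g).coeff k = _
  rw [theta_of_mem]
  exact PolynomialModule.monomial_smul_apply j _ (x g) k

/-- `(g / g') ^ n` on the overlap. -/
noncomputable def rho (g g' : C.gens) (n : ℕ) : Γ(Proj 𝒜, U C g ⊓ U C g') :=
  regFrac _ ((g : A) ^ n) ((g' : A) ^ n) (pow_mem_deg (C.deg_one g g.2) n) (pow_mem_deg (C.deg_one g' g'.2) n)
    fun x => notMem_chart C g' n ⟨x.1, x.2.2⟩

theorem rval_rho (g g' : C.gens) (n : ℕ) (x : ProjectiveSpectrum 𝒜) (hx : x ∈ U C g ⊓ U C g') :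
    rval (rho g g' n) x hx =
      Localization.mk ((g : A) ^ n) ⟨(g' : A) ^ n, notMem_chart C g' n ⟨x, hx.2⟩⟩ :=
  rval_regFrac _ _ _ _ _ _ x hx

/-- Restriction to the left chart. -/
noncomputable abbrev resL (g g' : C.gens) (t : Γ(F, U C g)) : Γ(F, U C g ⊓ U C g') :=
  F.presheaf.map (homOfLE (inf_le_left : U C g ⊓ U C g' ≤ U C g)).op t

/-- Restriction to the right chart. -/
noncomputable abbrev resR (g g' : C.gens) (t : Γ(F, U C g')) : Γ(F, U C g ⊓ U C g') :=
  F.presheaf.map (homOfLE (inf_le_right : U C g ⊓ U C g' ≤ U C g')).op t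

/-- The family is a section of `F(n)`. -/
def Compat (n : ℕ) (t : ∀ g : C.gens, Γ(F, U C g)) : Prop :=
  ∀ g g' : C.gens, resR g g' (t g') = rho g g' n • resL g g' (t g)

variable (C F) in
/-- Compatible families form a submodule. -/
noncomputable def compatSubmodule : Submodule A (Amb C F) where
  carrier := {x | ∀ n, Compat n (coef x n)}
  zero_mem' n g g' := by simp [coef_zero]
  add_mem' {x y} hx hy n g g' := by
    simp only [coef_add, resR, resL, map_add, smul_add]
    exact congrArg₂ (· + ·) (hx n g g') (hy n g g')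
  smul_mem' a x hx n g g' := by
    classical
    have key : ∀ (j : ℕ) (b : 𝒜 j), resR g g' (coef ((b : A) • x) n g') =
        rho g g' n • resL g g' (coef ((b : A) • x) n g) := by
      intro j b
      rw [coef_smul_of_mem, coef_smul_of_mem]
      split_ifs with h
      · have hs : (Proj 𝒜).presheaf.map (homOfLE (inf_le_right : U C g ⊓ U C g' ≤ U C g')).op (frac C g' j b) *
            rho g g' (n - j) =
            rho g g' n *
              (Proj 𝒜).presheaf.map (homOfLE (inf_le_left : U C g ⊓ U C g' ≤ U C g)).op (frac C g j b) :=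
          reg_ext fun y hy => by
            rw [rval_mul, rval_mul, rval_res, rval_res, rval_frac, rval_frac, rval_rho, rval_rho,
              Localization.mk_mul, Localization.mk_mul, Localization.mk_eq_mk_iff, Localization.r_iff_exists]
            refine ⟨1, ?_⟩
            obtain ⟨m, rfl⟩ := Nat.exists_eq_add_of_le h
            simp only [Submonoid.coe_mul, OneMemClass.coe_one, one_mul, Nat.add_sub_cancel_left, pow_add]
            ring
        rw [resR, resL, Scheme.Modules.map_smul, Scheme.Modules.map_smul]
        change _ • resR g g' (coef x (n - j) g') = _ • (_ • resL g g' (coef x (n - j) g))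
        rw [hx (n - j) g g', smul_smul, smul_smul, hs]
      · simp
    show resR g g' (coef (a • x) n g') = rho g g' n • resL g g' (coef (a • x) n g)
    rw [← DirectSum.sum_support_decompose 𝒜 a, Finset.sum_smul, coef_sum, coef_sum, resR, resL, map_sum, map_sum,
      Finset.smul_sum]
    exact Finset.sum_congr rfl fun j _ => key j _

/-- The single-degree element with given components. -/
noncomputable def mkAt (n : ℕ) (t : ∀ g : C.gens, Γ(F, U C g)) : Amb C F :=
  fun g => PolynomialModule.single _ n (t g)

theorem coef_mkAt (n k : ℕ) (t : ∀ g : C.gens, Γ(F, U C g)) (g : C.gens) :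
    coef (mkAt n t) k g = if n = k then t g else 0 := by
  show ((PolynomialModule.single _ n (t g)).coeff) k = _
  rw [PolynomialModule.coeff_single, Finsupp.single_apply]

theorem mkAt_mem (n : ℕ) {t : ∀ g : C.gens, Γ(F, U C g)} (ht : Compat n t) :
    mkAt n t ∈ compatSubmodule C F := fun k g g' => by
  rw [coef_mkAt, coef_mkAt]
  by_cases h : n = k
  · subst h
    simpa using ht g g'
  · simp [h]

/-- The homogeneous component. -/
noncomputable def comp (n : ℕ) (x : Amb C F) : Amb C F := mkAt n fun g => coef x n g

theorem coef_comp (n k : ℕ) (x : Amb C F) (g : C.gens) : coef (comp n x) k g = if n = k then coef x k g else 0 := by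
  rw [comp, coef_mkAt]
  split_ifs with h
  · rw [h]
  · rfl

/-- A submodule containing the components of its elements. -/
def IsHomog (N : Submodule A (Amb C F)) : Prop := ∀ x ∈ N, ∀ n, comp n x ∈ N

theorem isHomog_compat : IsHomog (compatSubmodule C F) := fun x hx n => mkAt_mem n (hx n)

/-- The degree-`n` part of a submodule. -/
noncomputable def piece (N : Submodule A (Amb C F)) (n : ℕ) : Submodule R N where
  carrier := {x | ∀ k g, k ≠ n → coef x.1 k g = 0}
  zero_mem' k g _ := rfl
  add_mem' {x y} hx hy k g hk := by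
    rw [Submodule.coe_add, coef_add, hx k g hk, hy k g hk, add_zero]
  smul_mem' r x hx k g hk := by
    show coef ((algebraMap R A r) • x.1) k g = 0
    rw [show algebraMap R A r = ((⟨algebraMap R A r, SetLike.algebraMap_mem_graded 𝒜 r⟩ : 𝒜 0) : A) from rfl,
      coef_smul_of_mem]
    simp [hx k g hk]

theorem mem_piece {N : Submodule A (Amb C F)} {n : ℕ} {x : N} :
    x ∈ piece N n ↔ ∀ k g, k ≠ n → coef x.1 k g = 0 := Iff.rfl

instance gradedSMul_piece (N : Submodule A (Amb C F)) : SetLike.GradedSMul 𝒜 (piece N) where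
  smul_mem {i j a x} ha hx k g hk := by
    show coef ((⟨a, ha⟩ : 𝒜 i).1 • x.1) k g = 0
    rw [coef_smul_of_mem]
    split_ifs with h
    · rw [hx (k - i) g (by simp only [vadd_eq_add] at hk; omega), smul_zero]
    · rfl

theorem piece_isInternal {N : Submodule A (Amb C F)} (hN : IsHomog N) : DirectSum.IsInternal (piece N) := by
  classical
  have hcoef : ∀ (f : ⨁ n, piece N n) (k : ℕ) (g : C.gens),
      coef ((DirectSum.coeAddMonoidHom (piece N) f : N) : Amb C F) k g = coef ((f k).1 : Amb C F) k g := by
    intro f k g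
    induction f using DirectSum.induction_on with
    | zero => rfl
    | of i x =>
      rw [DirectSum.coeAddMonoidHom_of]
      by_cases h : i = k
      · subst h; rw [DirectSum.of_eq_same]
      · rw [DirectSum.of_eq_of_ne _ _ _ (Ne.symm h)]
        exact (x.2 k g (Ne.symm h)).trans rfl
    | add a b ha hb => rw [map_add, Submodule.coe_add, coef_add, ha, hb, DirectSum.add_apply]; rfl
  constructor
  · intro f f' h
    refine DirectSum.ext_component ℕ fun n => Subtype.ext (Subtype.ext (coef_ext fun k g => ?_))
    change coef ((f n).1 : Amb C F) k g = coef ((f' n).1 : Amb C F) k g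
    by_cases hk : k = n
    · subst hk
      rw [← hcoef f, ← hcoef f']
      exact congrArg (fun y : N => coef y.1 k g) h
    · exact ((f n).2 k g hk).trans ((f' n).2 k g hk).symm
  · intro x
    let S : Finset ℕ := Finset.univ.biUnion fun g : C.gens => (x.1 g).coeff.support
    refine ⟨∑ n ∈ S, DirectSum.of (fun n => piece N n) n
      ⟨⟨comp n x.1, hN x.1 x.2 n⟩, fun k g hk => by rw [coef_comp, if_neg (Ne.symm hk)]⟩, ?_⟩
    rw [map_sum]
    simp only [DirectSum.coeAddMonoidHom_of]
    refine Subtype.ext (coef_ext fun k g => ?_)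
    rw [AddSubmonoidClass.coe_finsetSum, coef_sum]
    simp only [coef_comp, Finset.sum_ite_eq']
    split_ifs with h
    · rfl
    · by_contra hne
      exact h (Finset.mem_biUnion.mpr ⟨g, Finset.mem_univ g, Finsupp.mem_support_iff.mpr fun h0 => hne h0.symm⟩)

/-- The grading of a homogeneous submodule. -/
@[instance_reducible]
noncomputable def decomposition {N : Submodule A (Amb C F)} (hN : IsHomog N) :
    DirectSum.Decomposition (piece N) :=
  (piece_isInternal hN).chooseDecomposition

end Groth.Agent.ProjGamma
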