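import Groth.Agent.ProjGamma.Model
import Groth.Agent.QCohLib.FiniteType
import Groth.Prelude.Def_CohB1

/-!
# A finitely generated model of a finite type quasi-coherent module on `Proj`
-/

set_option autoImplicit false
universe u
open CategoryTheory AlgebraicGeometry Opposite TopologicalSpace DirectSum

namespace Groth.Agent.ProjGamma

set_option synthInstance.maxHeartbeats 400000
set_option maxHeartbeats 1600000

variable {R A : Type u} [CommRing R] [CommRing A] [Algebra R A] {𝒜 : ℕ → Submodule R A} [GradedAlgebra 𝒜]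
variable {C : Cover 𝒜} {F : (Proj 𝒜).Modules}

theorem comp_add (n : ℕ) (x y : Amb C F) : comp n (x + y) = comp n x + comp n y :=
  coef_ext fun k g => by simp only [coef_comp, coef_add]; split_ifs <;> simp

theorem comp_smul (n : ℕ) {j : ℕ} (a : 𝒜 j) (x : Amb C F) :
    comp n ((a : A) • x) = if j ≤ n then (a : A) • comp (n - j) x else 0 := by
  refine coef_ext fun k g => ?_
  rw [coef_comp]
  by_cases hj : j ≤ n
  · rw [if_pos hj]
    by_cases hn : n = k
    · subst hn
      rw [if_pos rfl, coef_smul_of_mem, coef_smul_of_mem, if_pos hj, if_pos hj, coef_comp, if_pos rfl]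
    · rw [if_neg hn, coef_smul_of_mem]
      split_ifs with hjk
      · rw [coef_comp, if_neg (by omega), smul_zero]
      · rfl
  · rw [if_neg hj, coef_zero]
    split_ifs with hn
    · subst hn; rw [coef_smul_of_mem, if_neg hj]
    · rfl

/-- The span of homogeneous elements is homogeneous. -/
theorem isHomog_span {S : Set (Amb C F)}
    (hS : ∀ y ∈ S, ∃ K, ∀ k g, k ≠ K → coef y k g = 0) : IsHomog (Submodule.span A S) := by
  classical
  intro x hx
  induction hx using Submodule.span_induction with
  | mem y hy =>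
    intro n
    obtain ⟨K, hK⟩ := hS y hy
    by_cases hn : n = K
    · rw [show comp n y = y from coef_ext fun k g => by
        rw [coef_comp]
        split_ifs with h
        · rfl
        · exact (hK k g (by omega)).symm]
      exact Submodule.subset_span hy
    · rw [show comp n y = 0 from coef_ext fun k g => by
        rw [coef_comp, coef_zero]
        split_ifs with h
        · exact hK k g (by omega)
        · rfl]
      exact zero_mem _
  | zero =>
    intro n
    rw [show comp n (0 : Amb C F) = 0 from coef_ext fun k g => by simp [coef_comp, coef_zero]]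
    exact zero_mem _
  | add y z _ _ hy hz => intro n; rw [comp_add]; exact add_mem (hy n) (hz n)
  | smul a y _ hy =>
    intro n
    have hfun : comp n (a • y) = ∑ j ∈ (decompose 𝒜 a).support, comp n ((decompose 𝒜 a j : A) • y) := by
      conv_lhs => rw [← DirectSum.sum_support_decompose 𝒜 a, Finset.sum_smul]
      exact map_sum (AddMonoidHom.mk' (comp n) (comp_add n)) _ _
    rw [hfun]
    refine Submodule.sum_mem _ fun j _ => ?_
    rw [comp_smul]
    split_ifs
    · exact Submodule.smul_mem _ _ (hy _)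
    · exact zero_mem _

theorem exists_finite_model [F.IsQuasicoherent] (hFT : CohB1.IsFT F) :
    ∃ M : Model C F, Module.Finite A M.N := by
  classical
  have hfin : ∀ g : C.gens, Module.Finite Γ(Proj 𝒜, U C g) Γ(F, U C g) := fun g =>
    QCohLib.finite_sections F hFT (isAffineOpen_U g)
  choose e he using fun g => (hfin g).fg_top
  choose K t ht hte using fun (g : C.gens) (x : e g) => exists_compat g x.1
  let S : Set (Amb C F) := Set.range fun p : Σ g : C.gens, e g => mkAt (K p.1 p.2) (t p.1 p.2)
  let N := Submodule.span A S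
  have hle : N ≤ compatSubmodule C F := Submodule.span_le.mpr (by
    rintro _ ⟨p, rfl⟩
    exact mkAt_mem _ (ht p.1 p.2))
  have hhom : IsHomog N := isHomog_span (by
    rintro _ ⟨p, rfl⟩
    exact ⟨K p.1 p.2, fun k g hk => by rw [coef_mkAt, if_neg (Ne.symm hk)]⟩)
  -- multiply by a power of `g`: same value on the chart of `g`, higher degree
  have hone : ∀ (g : C.gens) (j : ℕ), frac C g j ⟨(g : A) ^ j, pow_mem_deg (C.deg_one g g.2) j⟩ = 1 :=
    fun g j => reg_ext fun x hx => by
      rw [rval_frac, rval_one]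
      exact Localization.mk_self (⟨(g : A) ^ j, notMem_chart C g j ⟨x, hx⟩⟩ :
        x.asHomogeneousIdeal.toIdeal.primeCompl)
  have hscale : ∀ (g : C.gens) (n j : ℕ) (m : piece N n) (b : 𝒜 j),
      ∃ m' : piece N (j + n), coef m'.1.1 (j + n) g = frac C g j b • coef m.1.1 n g := fun g n j m b =>
    ⟨⟨(b : A) • m.1, SetLike.GradedSMul.smul_mem (A := 𝒜) b.2 m.2⟩, by
      show coef ((b : A) • m.1.1) (j + n) g = _
      rw [coef_smul_of_mem, if_pos (Nat.le_add_right j n), Nat.add_sub_cancel_left]⟩
  refine ⟨⟨N, hle, hhom, fun g => ?_⟩, ?_⟩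
  · let T : Submodule Γ(Proj 𝒜, U C g) Γ(F, U C g) :=
      { carrier := {x₀ | ∃ (n : ℕ) (m : piece N n), coef m.1.1 n g = x₀}
        zero_mem' := ⟨0, 0, rfl⟩
        add_mem' := by
          rintro x y ⟨n, m, rfl⟩ ⟨n', m', rfl⟩
          obtain ⟨m₁, h₁⟩ := hscale g n n' m ⟨_, pow_mem_deg (C.deg_one g g.2) n'⟩
          obtain ⟨m₂, h₂⟩ := hscale g n' n m' ⟨_, pow_mem_deg (C.deg_one g g.2) n⟩
          refine ⟨n' + n, ⟨m₁.1 + m₂.1, add_mem m₁.2 (by rw [Nat.add_comm]; exact m₂.2)⟩, ?_⟩
          show coef (m₁.1.1 + m₂.1.1) (n' + n) g = _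
          rw [coef_add, h₁, show n' + n = n + n' from Nat.add_comm _ _, h₂, hone, hone, one_smul, one_smul]
        smul_mem' := by
          rintro c x ⟨n, m, rfl⟩
          obtain ⟨k, a, ha, -, hc⟩ := ProjTwist.exists_frac_regular 𝒜 one_pos (C.deg_one g g.2) c
          rw [mul_one] at ha
          obtain ⟨m', h'⟩ := hscale g n k m ⟨a, ha⟩
          refine ⟨k + n, m', ?_⟩
          rw [h']
          congr 1
          exact reg_ext fun x hx => (rval_frac C g _ x hx).trans (hc x hx).symm }
    have hT : T = ⊤ := by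
      rw [eq_top_iff, ← he g, Submodule.span_le]
      intro x hx
      refine ⟨K g ⟨x, hx⟩, ⟨⟨mkAt (K g ⟨x, hx⟩) (t g ⟨x, hx⟩), Submodule.subset_span ⟨⟨g, ⟨x, hx⟩⟩, rfl⟩⟩,
        fun k g' hk => by rw [coef_mkAt, if_neg (Ne.symm hk)]⟩, ?_⟩
      show coef (mkAt _ _) _ g = x
      rw [coef_mkAt, if_pos rfl, hte g ⟨x, hx⟩]
    exact fun x₀ => (hT ▸ Submodule.mem_top : x₀ ∈ T)
  · exact Module.Finite.span_of_finite A (Set.finite_range _)

end Groth.Agent.ProjGamma
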