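import Groth.Agent.ProjGamma.Extend
import Groth.Agent.ProjTwist.QCoh
import Groth.Agent.ProjTwist.Stalk
import Groth.Agent.QCohLib.Cover

/-!
# A quasi-coherent module is `N~` for every large enough graded module of compatible families
-/

set_option autoImplicit false
universe u
open CategoryTheory AlgebraicGeometry Opposite TopologicalSpace DirectSum

namespace Groth.Agent.ProjGamma

set_option synthInstance.maxHeartbeats 400000
set_option maxHeartbeats 1600000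

variable {R A : Type u} [CommRing R] [CommRing A] [Algebra R A] {𝒜 : ℕ → Submodule R A} [GradedAlgebra 𝒜]

/-- A graded module of compatible families containing every chart section in some degree. -/
structure Model (C : Cover 𝒜) (F : (Proj 𝒜).Modules) where
  /-- the module -/
  N : Submodule A (Amb C F)
  le : N ≤ compatSubmodule C F
  homog : IsHomog N
  gen : ∀ (g : C.gens) (x₀ : Γ(F, U C g)), ∃ (K : ℕ) (m : piece N K), coef m.1.1 K g = x₀

variable {C : Cover 𝒜} {F : (Proj 𝒜).Modules} (M : Model C F)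

/-- The degree-`n` value on a chart. -/
noncomputable abbrev ev {n : ℕ} (m : piece M.N n) (g : C.gens) : Γ(F, U C g) := coef m.1.1 n g

theorem ev_compat {n : ℕ} (m : piece M.N n) : Compat n (ev M m) := M.le m.1.2 n

theorem smul_mem_piece {j n : ℕ} (a : 𝒜 j) (m : piece M.N n) : (a : A) • (m : M.N) ∈ piece M.N (j + n) :=
  SetLike.GradedSMul.smul_mem (A := 𝒜) a.2 m.2

theorem ev_smul {j n : ℕ} (a : 𝒜 j) (m : piece M.N n) (g : C.gens) :
    ev M ⟨_, smul_mem_piece M a m⟩ g = frac C g j a • ev M m g := by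
  show coef ((a : A) • m.1.1) (j + n) g = _
  rw [coef_smul_of_mem, if_pos (Nat.le_add_right j n), Nat.add_sub_cancel_left]

theorem piece_ext {n : ℕ} {m m' : piece M.N n} (h : ∀ g, ev M m g = ev M m' g) : m = m' := by
  refine Subtype.ext (Subtype.ext (coef_ext fun k g => ?_))
  by_cases hk : k = n
  · subst hk; exact h g
  · rw [m.2 k g hk, m'.2 k g hk]

theorem frac_mul (g : C.gens) {i j : ℕ} (a : 𝒜 i) (b : 𝒜 j) :
    frac C g (i + j) ⟨a.1 * b.1, SetLike.mul_mem_graded a.2 b.2⟩ = frac C g i a * frac C g j b :=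
  reg_ext fun x hx => by
    simp only [rval_mul, rval_frac, Localization.mk_mul]
    congr 1
    exact Subtype.ext (pow_add (g : A) i j)

theorem frac_pow (g : C.gens) {e : ℕ} (a : 𝒜 e) (L : ℕ) (h : a.1 ^ L ∈ 𝒜 (L * e)) :
    frac C g (L * e) ⟨a.1 ^ L, h⟩ = frac C g e a ^ L :=
  reg_ext fun x hx => by
    simp only [rval_pow, rval_frac, Localization.mk_pow]
    congr 1
    exact Subtype.ext (show (g : A) ^ (L * e) = ((g : A) ^ e) ^ L by rw [← pow_mul, mul_comm])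

/-- Multiplication of a section by a function, restricted. -/
theorem res_smul {W W' : (Proj 𝒜).Opens} (h : W' ≤ W) (c : Γ(Proj 𝒜, W)) (t : Γ(F, W)) :
    res h (c • t) = resO h c • res h t :=
  Scheme.Modules.map_smul F (homOfLE h) c t

theorem res_res {W W' W'' : (Proj 𝒜).Opens} (h : W' ≤ W) (h' : W'' ≤ W') (t : Γ(F, W)) :
    res h' (res h t) = res (h'.trans h) t := QCohLib.map_map F h' h t

theorem resO_resO {W W' W'' : (Proj 𝒜).Opens} (h : W' ≤ W) (h' : W'' ≤ W') (c : Γ(Proj 𝒜, W)) :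
    resO h' (resO h c) = resO (h'.trans h) c := QCohLib.ring_map_map h' h c

/-- `m / d` represents the germ of `t` at the points of `W`. -/
def Good {V : (Proj 𝒜).Opens} (t : Γ(F, V)) {n : ℕ} (m : piece M.N n) (d : 𝒜 n)
    (W : (Proj 𝒜).Opens) (hW : W ≤ V) : Prop :=
  ∀ g : C.gens, resO (inf_le_right : W ⊓ U C g ≤ U C g) (frac C g n d) • res (inf_le_left.trans hW) t =
    res (inf_le_right : W ⊓ U C g ≤ U C g) (ev M m g)

/-- `q` is the fraction attached to `t` at `x`. -/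
def Rep {V : (Proj 𝒜).Opens} (t : Γ(F, V)) (x : ProjectiveSpectrum 𝒜)
    (q : GrTilde.LocMod 𝒜 (M := M.N) x) : Prop :=
  ∃ (n : ℕ) (m : piece M.N n) (d : 𝒜 n) (hd : d.1 ∉ x.asHomogeneousIdeal)
    (W : (Proj 𝒜).Opens) (hW : W ≤ V), x ∈ W ∧ Good M t m d W hW ∧ q = LocalizedModule.mk m.1 ⟨d.1, hd⟩

theorem Good.mono {V : (Proj 𝒜).Opens} {t : Γ(F, V)} {n : ℕ} {m : piece M.N n} {d : 𝒜 n}
    {W : (Proj 𝒜).Opens} {hW : W ≤ V} (h : Good M t m d W hW) {W' : (Proj 𝒜).Opens} (hW' : W' ≤ W) :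
    Good M t m d W' (hW'.trans hW) := fun g => by
  have := congrArg (res (inf_le_inf_right (U C g) hW')) (h g)
  simp only [res_smul, res_res, resO_resO] at this
  exact this

theorem rep_unique [F.IsQuasicoherent] {V : (Proj 𝒜).Opens} {t : Γ(F, V)} {x : ProjectiveSpectrum 𝒜}
    {q q' : GrTilde.LocMod 𝒜 (M := M.N) x} (h : Rep M t x q) (h' : Rep M t x q') : q = q' := by
  classical
  obtain ⟨n, m, d, hd, W, hW, hxW, hg, rfl⟩ := h
  obtain ⟨n', m', d', hd', W', hW', hxW', hg', rfl⟩ := h'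
  obtain ⟨e, a, ha, hxa, haW⟩ :=
    ProjTwist.exists_homogeneous_nhd 𝒜 (x := x) (W ⊓ W') ⟨hxW, hxW'⟩
  -- the difference in degree `n' + n`
  have hmem : (d' : A) • (m : M.N) - (d : A) • (m' : M.N) ∈ piece M.N (n' + n) :=
    sub_mem (smul_mem_piece M d' m) (by rw [Nat.add_comm]; exact smul_mem_piece M d m')
  let z : piece M.N (n' + n) := ⟨_, hmem⟩
  have hz : ∀ g : C.gens, ev M z g = frac C g n' d' • ev M m g - frac C g n d • ev M m' g := fun g => by
    show coef (((d' : A) • m.1.1) - (d : A) • m'.1.1) (n' + n) g = _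
    have hsub : ∀ a b : Amb C F, coef (a - b) (n' + n) g = coef a (n' + n) g - coef b (n' + n) g :=
      fun a b => map_sub (AddMonoidHom.mk' (fun y : Amb C F => coef y (n' + n) g) fun a b => coef_add a b _ g) a b
    rw [hsub, coef_smul_of_mem, coef_smul_of_mem, if_pos (Nat.le_add_right n' n),
      if_pos (Nat.le_add_left n n'), Nat.add_sub_cancel_left, Nat.add_sub_cancel]
  -- it vanishes near `x` on each chart, so is killed by a power of `a`
  have htor : ∀ g : C.gens, ∃ L : ℕ, frac C g e ⟨a, ha⟩ ^ L • ev M z g = 0 := by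
    intro g
    refine QCohLib.exists_pow_smul_eq_zero (M := F) (isAffineOpen_U g) _ (U C g ⊓ Proj.basicOpen 𝒜 a)
      inf_le_left (basicOpen_frac g ⟨a, ha⟩).symm _ ?_
    have hle : U C g ⊓ Proj.basicOpen 𝒜 a ≤ W ⊓ U C g := fun y hy => ⟨(haW hy.2).1, hy.1⟩
    have hle' : U C g ⊓ Proj.basicOpen 𝒜 a ≤ W' ⊓ U C g := fun y hy => ⟨(haW hy.2).2, hy.1⟩
    have e1 := congrArg (res hle) (hg g)
    have e2 := congrArg (res hle') (hg' g)
    simp only [res_smul, res_res, resO_resO] at e1 e2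
    show res inf_le_left (ev M z g) = 0
    rw [hz, res, map_sub, sub_eq_zero]
    change res inf_le_left (_ • ev M m g) = res inf_le_left (_ • ev M m' g)
    rw [res_smul, res_smul, ← e1, ← e2, smul_smul, smul_smul, mul_comm]
  choose L hL using htor
  let Lm := Finset.univ.sup L
  have hu : (a ^ Lm) • (z : M.N) = 0 := by
    have hpow : a ^ Lm ∈ 𝒜 (Lm * e) := by simpa [smul_eq_mul] using SetLike.pow_mem_graded Lm ha
    have h0 : (⟨_, smul_mem_piece M ⟨a ^ Lm, hpow⟩ z⟩ : piece M.N (Lm * e + (n' + n))) = 0 := by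
      refine piece_ext M fun g => ?_
      rw [ev_smul, frac_pow g ⟨a, ha⟩ Lm hpow]
      have hle : L g ≤ Lm := Finset.le_sup (Finset.mem_univ g)
      rw [← Nat.sub_add_cancel hle, pow_add, mul_smul, hL g, smul_zero]
      rfl
    exact congrArg Subtype.val h0
  rw [LocalizedModule.mk_eq]
  refine ⟨⟨a ^ Lm, notMem_pow hxa Lm⟩, ?_⟩
  rw [smul_sub, sub_eq_zero] at hu
  exact hu

theorem exists_rep [F.IsQuasicoherent] {V : (Proj 𝒜).Opens} (t : Γ(F, V)) (x : ProjectiveSpectrum 𝒜)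
    (hx : x ∈ V) : ∃ q, Rep M t x q := by
  obtain ⟨g, hg, hgx⟩ := C.exists_notMem x
  let g₀ : C.gens := ⟨g, hg⟩
  obtain ⟨e, a, ha, hxa, haV⟩ := ProjTwist.exists_homogeneous_nhd 𝒜 (x := x) (V ⊓ U C g₀) ⟨hx, hgx⟩
  let D : (Proj 𝒜).Opens := U C g₀ ⊓ Proj.basicOpen 𝒜 a
  have hDV : D ≤ V := fun y hy => (haV hy.2).1
  obtain ⟨L, x₀, hx₀⟩ := QCohLib.exists_res_eq_pow_smul (M := F) (isAffineOpen_U g₀) (frac C g₀ e ⟨a, ha⟩) D
    inf_le_left (basicOpen_frac g₀ ⟨a, ha⟩).symm (res hDV t)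
  obtain ⟨K, m, hm⟩ := M.gen g₀ x₀
  have hgL : g ^ (L * e) ∈ 𝒜 (L * e) := pow_mem_deg (C.deg_one g hg) _
  have haL : a ^ L ∈ 𝒜 (L * e) := by simpa [smul_eq_mul] using SetLike.pow_mem_graded L ha
  have hd : a ^ L * g ^ K ∈ 𝒜 (L * e + K) :=
    SetLike.mul_mem_graded haL (pow_mem_deg (C.deg_one g hg) _)
  let m' : piece M.N (L * e + K) := ⟨_, smul_mem_piece M ⟨_, hgL⟩ m⟩
  let d : 𝒜 (L * e + K) := ⟨_, hd⟩
  have hev : ev M m' g₀ = x₀ := by
    show ev M ⟨_, smul_mem_piece M ⟨g ^ (L * e), hgL⟩ m⟩ g₀ = x₀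
    rw [ev_smul, show ev M m g₀ = x₀ from hm]
    convert one_smul Γ(Proj 𝒜, U C g₀) x₀
    exact reg_ext fun y hy => by
      rw [rval_frac, rval_one]
      exact Localization.mk_self (⟨g ^ (L * e), notMem_chart C g₀ _ ⟨y, hy⟩⟩ :
        y.asHomogeneousIdeal.toIdeal.primeCompl)
  refine ⟨_, L * e + K, m', d, notMem_mul (notMem_pow hxa L) (notMem_pow hgx K), D, hDV, ⟨hgx, hxa⟩, fun g' => ?_, rfl⟩
  have h1 := congrArg (res (inf_le_left : D ⊓ U C g' ≤ D)) hx₀
  simp only [res, Scheme.Modules.map_smul, map_pow] at h1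
  change res _ (res _ x₀) = resO _ (resO _ (frac C g₀ e ⟨a, ha⟩)) ^ L • res _ (res hDV t) at h1
  simp only [res_res, resO_resO] at h1
  have h2 := congrArg (res (show D ⊓ U C g' ≤ U C g₀ ⊓ U C g' from fun y hy => ⟨hy.1.1, hy.2⟩))
    (ev_compat M m' g₀ g')
  simp only [resR, resL] at h2
  change res _ (res _ (ev M m' g')) = res _ (rho g₀ g' (L * e + K) • res _ (ev M m' g₀)) at h2
  simp only [res_smul, res_res] at h2
  rw [h2, hev, h1, smul_smul]
  congr 1
  refine reg_ext fun y hy => ?_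
  simp only [rval_mul, rval_pow, rval_res]
  erw [rval_frac, rval_rho, rval_frac]
  simp only [Localization.mk_pow, Localization.mk_mul]
  rw [Localization.mk_eq_mk_iff, Localization.r_iff_exists]
  exact ⟨1, by simp only [Submonoid.coe_mul, SubmonoidClass.coe_pow, OneMemClass.coe_one, g₀, d]; ring⟩

theorem rep_mem [F.IsQuasicoherent] {V : (Proj 𝒜).Opens} {t : Γ(F, V)} {x : ProjectiveSpectrum 𝒜}
    {q : GrTilde.LocMod 𝒜 (M := M.N) x} (h : Rep M t x q) : q ∈ GrTilde.tildeAt 𝒜 (piece M.N) 0 x := by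
  obtain ⟨n, m, d, hd, W, hW, -, -, rfl⟩ := h
  exact ProjTwist.mk_mem_tildeAt m.2 d.2 hd (by simp)

/-- The value of the comparison map. -/
noncomputable def psiVal [F.IsQuasicoherent] {V : (Proj 𝒜).Opens} (t : Γ(F, V)) (x : ProjectiveSpectrum 𝒜)
    (hx : x ∈ V) : GrTilde.LocMod 𝒜 (M := M.N) x :=
  (exists_rep M t x hx).choose

theorem psiVal_rep [F.IsQuasicoherent] {V : (Proj 𝒜).Opens} (t : Γ(F, V)) (x : ProjectiveSpectrum 𝒜)
    (hx : x ∈ V) : Rep M t x (psiVal M t x hx) :=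
  (exists_rep M t x hx).choose_spec

theorem psiVal_eq [F.IsQuasicoherent] {V : (Proj 𝒜).Opens} {t : Γ(F, V)} {x : ProjectiveSpectrum 𝒜}
    {hx : x ∈ V} {q : GrTilde.LocMod 𝒜 (M := M.N) x} (h : Rep M t x q) : psiVal M t x hx = q :=
  rep_unique M (psiVal_rep M t x hx) h

theorem rep_add {V : (Proj 𝒜).Opens} {t t' : Γ(F, V)} {x : ProjectiveSpectrum 𝒜}
    {q q' : GrTilde.LocMod 𝒜 (M := M.N) x} (h : Rep M t x q) (h' : Rep M t' x q') :
    Rep M (t + t') x (q + q') := by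
  obtain ⟨n, m, d, hd, W, hW, hxW, hg, rfl⟩ := h
  obtain ⟨n', m', d', hd', W', hW', hxW', hg', rfl⟩ := h'
  have hmem : (d' : A) • (m : M.N) + (d : A) • (m' : M.N) ∈ piece M.N (n + n') :=
    add_mem (by rw [Nat.add_comm]; exact smul_mem_piece M d' m) (smul_mem_piece M d m')
  refine ⟨n + n', ⟨_, hmem⟩, ⟨d.1 * d'.1, SetLike.mul_mem_graded d.2 d'.2⟩, notMem_mul hd hd', W ⊓ W',
    inf_le_left.trans hW, ⟨hxW, hxW'⟩, fun g => ?_, LocalizedModule.mk_add_mk⟩
  have e1 := (hg.mono M (inf_le_left : W ⊓ W' ≤ W)) g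
  have e2 := (hg'.mono M (inf_le_right : W ⊓ W' ≤ W')) g
  have hev : ev M (⟨_, hmem⟩ : piece M.N (n + n')) g =
      frac C g n' d' • ev M m g + frac C g n d • ev M m' g := by
    show coef ((d' : A) • m.1.1 + (d : A) • m'.1.1) (n + n') g = _
    rw [coef_add, coef_smul_of_mem, coef_smul_of_mem, if_pos (Nat.le_add_left n' n),
      if_pos (Nat.le_add_right n n'), Nat.add_sub_cancel, Nat.add_sub_cancel_left]
  rw [hev, frac_mul g d d']
  simp only [res, resO, map_add, map_mul, Scheme.Modules.map_smul, smul_add] at e1 e2 ⊢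
  rw [← e1, ← e2, smul_smul, smul_smul, mul_comm]

theorem rep_smul {V : (Proj 𝒜).Opens} (c : Γ(Proj 𝒜, V)) {t : Γ(F, V)} {x : ProjectiveSpectrum 𝒜}
    (hx : x ∈ V) {q : GrTilde.LocMod 𝒜 (M := M.N) x} (h : Rep M t x q) :
    Rep M (c • t) x (rval c x hx • q) := by
  obtain ⟨n, m, d, hd, W, hW, hxW, hg, rfl⟩ := h
  obtain ⟨W', hxW', ι, e, ⟨a, ha⟩, ⟨b, hb⟩, hbn, hc⟩ := (show Twist.O (𝒜 := 𝒜) (op V) from c).2 ⟨x, hx⟩
  have hWV : W' ≤ V := leOfHom ι
  have hcv : ∀ (y : ProjectiveSpectrum 𝒜) (hy : y ∈ W'),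
      rval c y (hWV hy) = Localization.mk a ⟨b, hbn ⟨y, hy⟩⟩ := fun y hy =>
    (congrArg HomogeneousLocalization.val (hc ⟨y, hy⟩)).trans (HomogeneousLocalization.val_mk _)
  refine ⟨e + n, ⟨_, smul_mem_piece M ⟨a, ha⟩ m⟩, ⟨b * d.1, SetLike.mul_mem_graded hb d.2⟩,
    notMem_mul (hbn ⟨x, hxW'⟩) hd, W ⊓ W', inf_le_left.trans hW, ⟨hxW, hxW'⟩, fun g => ?_, ?_⟩
  · have e1 := (hg.mono M (inf_le_left : W ⊓ W' ≤ W)) g
    rw [ev_smul, frac_mul g ⟨b, hb⟩ d]
    simp only [res, resO, map_mul, Scheme.Modules.map_smul] at e1 ⊢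
    rw [← e1, smul_smul, smul_smul]
    congr 1
    refine reg_ext fun y hy => ?_
    simp only [rval_mul, rval_res]
    rw [hcv y hy.1.2]
    erw [rval_frac, rval_frac, rval_frac]
    simp only [Localization.mk_mul]
    rw [Localization.mk_eq_mk_iff, Localization.r_iff_exists]
    exact ⟨1, by simp only [Submonoid.coe_mul, OneMemClass.coe_one]; ring⟩
  · rw [hcv x hxW', LocalizedModule.mk_smul_mk]
    rfl

theorem rep_res {V V' : (Proj 𝒜).Opens} (h : V' ≤ V) {t : Γ(F, V)} {x : ProjectiveSpectrum 𝒜} (hx : x ∈ V')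
    {q : GrTilde.LocMod 𝒜 (M := M.N) x} (hr : Rep M t x q) : Rep M (res h t) x q := by
  obtain ⟨n, m, d, hd, W, hW, hxW, hg, rfl⟩ := hr
  refine ⟨n, m, d, hd, W ⊓ V', inf_le_right, ⟨hxW, hx⟩, fun g => ?_, rfl⟩
  have e1 := (hg.mono M (inf_le_left : W ⊓ V' ≤ W)) g
  rw [res_res]
  exact e1

variable [F.IsQuasicoherent]

/-- The comparison map on sections. -/
noncomputable def psi (V : (Proj 𝒜).Opens) (t : Γ(F, V)) : GrTilde.sect 𝒜 (piece M.N) 0 (op V) :=
  ⟨fun x => ⟨psiVal M t x.1 x.2, rep_mem M (psiVal_rep M t x.1 x.2)⟩, fun x => by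
    obtain ⟨n, m, d, hd, W, hW, hxW, hg, hq⟩ := psiVal_rep M t x.1 x.2
    refine ⟨W ⊓ Proj.basicOpen 𝒜 d.1, ⟨hxW, hd⟩, homOfLE (inf_le_left.trans hW), n, n, m, d,
      fun y => y.2.2, Or.inl (by simp), fun y => psiVal_eq M (hx := hW y.2.1) ?_⟩
    exact ⟨n, m, d, y.2.2, W ⊓ Proj.basicOpen 𝒜 d.1, inf_le_left.trans hW, y.2, hg.mono M inf_le_left, rfl⟩⟩

theorem psi_add (V : (Proj 𝒜).Opens) (t t' : Γ(F, V)) : psi M V (t + t') = psi M V t + psi M V t' :=
  ProjTwist.sect_ext (𝒜 := 𝒜) (ℳ := piece M.N) fun x =>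
    psiVal_eq M (hx := x.2) (rep_add M (psiVal_rep M t x.1 x.2) (psiVal_rep M t' x.1 x.2))

theorem psi_res {V V' : (Proj 𝒜).Opens} (h : V' ≤ V) (t : Γ(F, V)) :
    psi M V' (res h t) = GrTilde.res 𝒜 (piece M.N) 0 (homOfLE h).op (psi M V t) :=
  ProjTwist.sect_ext (𝒜 := 𝒜) (ℳ := piece M.N) fun x =>
    psiVal_eq M (hx := x.2) (rep_res M h x.2 (psiVal_rep M t x.1 (h x.2)))

theorem psi_smul (V : (Proj 𝒜).Opens) (c : Γ(Proj 𝒜, V)) (t : Γ(F, V)) :
    psi M V (c • t) = (show Twist.O (𝒜 := 𝒜) (op V) from c) • psi M V t :=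
  ProjTwist.sect_ext (𝒜 := 𝒜) (ℳ := piece M.N) fun x =>
    (psiVal_eq M (hx := x.2) (rep_smul M (V := V) c x.2 (psiVal_rep M t x.1 x.2))).trans
      (ProjTwist.smul_val (U := V) (show Twist.O (𝒜 := 𝒜) (op V) from c) (psi M V t) x).symm

/-- The comparison morphism `F ⟶ N~`. -/
noncomputable def psiHom : F ⟶ GrTilde.tilde 𝒜 (piece M.N) 0 :=
  ⟨PresheafOfModules.homMk
    { app := fun V => AddCommGrpCat.ofHom (AddMonoidHom.mk' (fun t => psi M V.unop t) (psi_add M V.unop))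
      naturality := fun {V V'} i => by
        ext t
        exact psi_res M (leOfHom i.unop) t }
    (fun V c t => psi_smul M V.unop c t)⟩

theorem psi_bijective (g₀ : C.gens) : Function.Bijective ((psiHom M).app (U C g₀)) := by
  classical
  let _ := decomposition M.homog
  constructor
  · suffices h0 : ∀ t : Γ(F, U C g₀), psi M (U C g₀) t = 0 → t = 0 by
      exact (injective_iff_map_eq_zero ((psiHom M).app (U C g₀)).hom).mpr h0
    intro t ht
    refine TopCat.Presheaf.section_ext (⟨F.presheaf, Scheme.Modules.isSheaf F⟩ : TopCat.Sheaf Ab (Proj 𝒜)) _ _ _ ?_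
    intro (x : ProjectiveSpectrum 𝒜) hx
    obtain ⟨n, m, d, hd, W, hW, hxW, hg, hq⟩ := psiVal_rep M t x hx
    have hzero : psiVal M t x hx = 0 :=
      congrArg (fun s : GrTilde.sect 𝒜 (piece M.N) 0 (op (U C g₀)) => (s.1 ⟨x, hx⟩).1) ht
    rw [hq, ← LocalizedModule.zero_mk (S := x.asHomogeneousIdeal.toIdeal.primeCompl) 1,
      LocalizedModule.mk_eq] at hzero
    obtain ⟨u, hu⟩ := hzero
    simp only [Submonoid.smul_def, one_smul, smul_zero] at hu
    -- a homogeneous component of `u` outside `x` kills `m`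
    obtain ⟨k, huk⟩ : ∃ k, (decompose 𝒜 u.1 k : A) ∉ x.asHomogeneousIdeal := by
      by_contra hc
      push Not at hc
      refine u.2 ?_
      rw [← DirectSum.sum_support_decompose 𝒜 u.1]
      exact Ideal.sum_mem _ fun k _ => hc k
    have hcomp : (decompose 𝒜 u.1 k : A) • (m : M.N) = 0 := by
      refine congrArg Subtype.val (show (⟨_, smul_mem_piece M (decompose 𝒜 u.1 k) m⟩ : piece M.N (k + n)) = 0 from
        piece_ext M fun g => ?_)
      have h1 : coef (u.1 • m.1.1) (k + n) g = 0 := by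
        rw [show u.1 • m.1.1 = (u.1 • (m : M.N) : M.N).1 from rfl, hu]; rfl
      rw [← DirectSum.sum_support_decompose 𝒜 u.1, Finset.sum_smul, coef_sum] at h1
      refine Eq.trans ?_ h1
      rw [Finset.sum_eq_single k]
      · rfl
      · intro j _ hj
        rw [coef_smul_of_mem]
        split_ifs
        · rw [m.2 _ g (by omega), smul_zero]
        · rfl
      · intro hk
        rw [DFinsupp.notMem_support_iff.mp hk]
        simp [coef_zero]
    let W' : (Proj 𝒜).Opens := W ⊓ Proj.basicOpen 𝒜 ((decompose 𝒜 u.1 k : A) * d.1)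
    have hxW' : x ∈ W' ⊓ U C g₀ := ⟨⟨hxW, notMem_mul huk hd⟩, hx⟩
    have h2 := congrArg (resO (inf_le_right : W' ⊓ U C g₀ ≤ U C g₀) (frac C g₀ k (decompose 𝒜 u.1 k)) • ·)
      ((hg.mono M (inf_le_left : W' ≤ W)) g₀)
    simp only [← res_smul, smul_smul] at h2
    rw [← ev_smul] at h2
    have h3 : ev M (⟨_, smul_mem_piece M (decompose 𝒜 u.1 k) m⟩ : piece M.N (k + n)) g₀ = 0 := by
      show coef ((decompose 𝒜 u.1 k : A) • (m : M.N) : M.N).1 (k + n) g₀ = 0
      rw [hcomp]; rfl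
    rw [h3] at h2
    simp only [res, map_zero] at h2
    let c := resO (inf_le_right : W' ⊓ U C g₀ ≤ U C g₀) (frac C g₀ k (decompose 𝒜 u.1 k)) *
      resO (inf_le_right : W' ⊓ U C g₀ ≤ U C g₀) (frac C g₀ n d)
    have hunit : IsUnit c := by
      rw [isUnit_iff_exists_inv]
      refine ⟨regFrac (W' ⊓ U C g₀) ((g₀ : A) ^ (k + n)) ((decompose 𝒜 u.1 k : A) * d.1)
        (pow_mem_deg (C.deg_one _ g₀.2) _) (SetLike.mul_mem_graded (decompose 𝒜 u.1 k).2 d.2)
        (fun y => y.2.1.2), reg_ext fun y hy => ?_⟩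
      simp only [c, rval_mul, rval_res, rval_one]
      erw [rval_frac, rval_frac, rval_regFrac]
      rw [Localization.mk_mul, Localization.mk_mul, ← Localization.mk_one, Localization.mk_eq_mk_iff,
        Localization.r_iff_exists]
      exact ⟨1, by simp only [Submonoid.coe_mul, OneMemClass.coe_one, pow_add]; ring⟩
    have hres0 : res (inf_le_right : W' ⊓ U C g₀ ≤ U C g₀) t = 0 := hunit.smul_eq_zero.mp (by
      rw [← h2]
      change _ = res _ _
      rw [res_smul, resO, map_mul])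
    have hgerm := TopCat.Presheaf.germ_res_apply F.presheaf
      (homOfLE (inf_le_right : W' ⊓ U C g₀ ≤ U C g₀)) x hxW' t
    change (F.presheaf.germ (U C g₀) x hx).hom t = (F.presheaf.germ (U C g₀) x hx).hom 0
    rw [map_zero]
    exact hgerm.symm.trans ((congrArg _ hres0).trans (map_zero _))
  · intro q
    let q' : GrTilde.sect 𝒜 (piece M.N) 0 (op (ProjectiveSpectrum.basicOpen 𝒜 (g₀ : A))) := q
    obtain ⟨k, i, m, hm, hi, hq⟩ :=
      ProjTwist.exists_frac_basicOpen 𝒜 (piece M.N) 0 one_pos (C.deg_one _ g₀.2) q'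
    obtain rfl : i = k := by omega
    refine ⟨ev M ⟨m, hm⟩ g₀, ProjTwist.sect_ext (𝒜 := 𝒜) (ℳ := piece M.N) fun x => ?_⟩
    refine (psiVal_eq M (hx := x.2) ?_).trans (hq x.1 x.2).symm
    refine ⟨i, ⟨m, hm⟩, ⟨_, pow_mem_deg (C.deg_one _ g₀.2) i⟩, notMem_pow x.2 i, U C g₀, le_rfl, x.2,
      fun g => ?_, rfl⟩
    have h2 := ev_compat M ⟨m, hm⟩ g₀ g
    try rw [res_res]
    refine Eq.trans ?_ h2.symm
    congr 1

/-- `F ≅ N~`. -/
theorem nonempty_iso : Nonempty (GrTilde.tilde 𝒜 (piece M.N) 0 ≅ F) := by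
  let _ := decomposition M.homog
  have : (GrTilde.tilde 𝒜 (piece M.N) 0).IsQuasicoherent :=
    ProjTwist.isQuasicoherent_tilde 𝒜 (piece M.N) 0
  have : IsIso (psiHom M) := QCohLib.isIso_of_cover_bijective (U C) isAffineOpen_U
    (fun x => by obtain ⟨g, hg, hgx⟩ := C.exists_notMem x; exact ⟨⟨g, hg⟩, hgx⟩) _ (psi_bijective M)
  exact ⟨(asIso (psiHom M)).symm⟩

end Groth.Agent.ProjGamma
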