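import Groth.Prelude.Def_Twist2
import Mathlib.AlgebraicGeometry.ProjectiveSpectrum.Basic
import Mathlib.RingTheory.GradedAlgebra.Basic
import Mathlib.Tactic

/-!
# Regular functions `a / t` on opens of `Proj`, and covers by degree-one elements
-/

set_option autoImplicit false
universe u
open CategoryTheory AlgebraicGeometry Opposite TopologicalSpace DirectSum

namespace Groth.Agent.ProjGamma

variable {R A : Type u} [CommRing R] [CommRing A] [Algebra R A] (𝒜 : ℕ → Submodule R A) [GradedAlgebra 𝒜]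

/-- A finite set of degree-one elements without common zero on `Proj`. -/
structure Cover where
  /-- the elements -/
  gens : Finset A
  deg_one : ∀ g ∈ gens, g ∈ 𝒜 1
  exists_notMem : ∀ x : ProjectiveSpectrum 𝒜, ∃ g ∈ gens, g ∉ x.asHomogeneousIdeal

/-- Degree-one generators of the irrelevant ideal form a cover. -/
def Cover.ofSpan (s : Finset A) (hs1 : ∀ f ∈ s, f ∈ 𝒜 1)
    (hs : (HomogeneousIdeal.irrelevant 𝒜).toIdeal = Ideal.span (s : Set A)) : Cover 𝒜 :=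
  ⟨s, hs1, fun x => by
    by_contra hc
    push Not at hc
    refine x.not_irrelevant_le ?_
    show (HomogeneousIdeal.irrelevant 𝒜).toIdeal ≤ x.asHomogeneousIdeal.toIdeal
    rw [hs, Ideal.span_le]
    exact fun f hf => hc f hf⟩

variable {𝒜}

/-- The regular function `a / t` where `t` does not vanish. -/
noncomputable def regFrac (W : (Proj 𝒜).Opens) {j : ℕ} (a t : A) (ha : a ∈ 𝒜 j) (ht : t ∈ 𝒜 j)
    (hn : ∀ x : W, t ∉ x.1.asHomogeneousIdeal) : Γ(Proj 𝒜, W) :=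
  show Twist.O (𝒜 := 𝒜) (op W) from
  ⟨fun x => HomogeneousLocalization.mk ⟨j, ⟨a, ha⟩, ⟨t, ht⟩, hn x⟩,
    fun x => ⟨W, x.2, 𝟙 _, j, ⟨a, ha⟩, ⟨t, ht⟩, fun y => hn y, fun _ => rfl⟩⟩

/-- The value of a regular function at a point. -/
noncomputable def rval {W : (Proj 𝒜).Opens} (c : Γ(Proj 𝒜, W)) (x : ProjectiveSpectrum 𝒜)
    (hx : x ∈ W) : Twist.Loc 𝒜 x :=
  ((show Twist.O (𝒜 := 𝒜) (op W) from c).1 ⟨x, hx⟩).val

theorem rval_regFrac (W : (Proj 𝒜).Opens) {j : ℕ} (a t : A) (ha : a ∈ 𝒜 j) (ht : t ∈ 𝒜 j)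
    (hn : ∀ x : W, t ∉ x.1.asHomogeneousIdeal) (x : ProjectiveSpectrum 𝒜) (hx : x ∈ W) :
    rval (regFrac W a t ha ht hn) x hx = Localization.mk a ⟨t, hn ⟨x, hx⟩⟩ :=
  HomogeneousLocalization.val_mk _

theorem rval_res {W W' : (Proj 𝒜).Opens} (h : W' ≤ W) (c : Γ(Proj 𝒜, W)) (x : ProjectiveSpectrum 𝒜)
    (hx : x ∈ W') : rval ((Proj 𝒜).presheaf.map (homOfLE h).op c) x hx = rval c x (h hx) := rfl

theorem rval_mul {W : (Proj 𝒜).Opens} (c c' : Γ(Proj 𝒜, W)) (x : ProjectiveSpectrum 𝒜) (hx : x ∈ W) :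
    rval (c * c') x hx = rval c x hx * rval c' x hx :=
  HomogeneousLocalization.val_mul _ _

theorem rval_add {W : (Proj 𝒜).Opens} (c c' : Γ(Proj 𝒜, W)) (x : ProjectiveSpectrum 𝒜) (hx : x ∈ W) :
    rval (c + c') x hx = rval c x hx + rval c' x hx :=
  HomogeneousLocalization.val_add _ _

theorem rval_one {W : (Proj 𝒜).Opens} (x : ProjectiveSpectrum 𝒜) (hx : x ∈ W) :
    rval (1 : Γ(Proj 𝒜, W)) x hx = 1 :=
  HomogeneousLocalization.val_one

theorem rval_pow {W : (Proj 𝒜).Opens} (c : Γ(Proj 𝒜, W)) (n : ℕ) (x : ProjectiveSpectrum 𝒜) (hx : x ∈ W) :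
    rval (c ^ n) x hx = rval c x hx ^ n :=
  HomogeneousLocalization.val_pow _ _

theorem reg_ext {W : (Proj 𝒜).Opens} {c c' : Γ(Proj 𝒜, W)}
    (h : ∀ (x : ProjectiveSpectrum 𝒜) (hx : x ∈ W), rval c x hx = rval c' x hx) : c = c' :=
  Subtype.ext (funext fun x => HomogeneousLocalization.val_injective _ (h x.1 x.2))

theorem notMem_pow {x : ProjectiveSpectrum 𝒜} {g : A} (hg : g ∉ x.asHomogeneousIdeal) (n : ℕ) :
    g ^ n ∉ x.asHomogeneousIdeal := fun h => hg (x.isPrime.mem_of_pow_mem n h)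

theorem notMem_mul {x : ProjectiveSpectrum 𝒜} {a b : A} (ha : a ∉ x.asHomogeneousIdeal)
    (hb : b ∉ x.asHomogeneousIdeal) : a * b ∉ x.asHomogeneousIdeal :=
  fun h => (x.isPrime.mem_or_mem h).elim ha hb

theorem pow_mem_deg {g : A} (hg : g ∈ 𝒜 1) (n : ℕ) : g ^ n ∈ 𝒜 n := by
  simpa using SetLike.pow_mem_graded n hg

end Groth.Agent.ProjGamma
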